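import Groth.Agent.FittLib.BaseChange
import Mathlib.Algebra.Module.FinitePresentation
import Mathlib.RingTheory.Spectrum.Prime.ConstructibleSet

/-!
# The fibre rank of a finitely presented module is constructible
-/

set_option autoImplicit false

universe u

open TensorProduct Topology

namespace Groth.Agent.ConsFlat

variable {B : Type u} [CommRing B] (M : Type u) [AddCommGroup M] [Module B M]

theorem fitting_le_iff [Module.Finite B M] (p : PrimeSpectrum B) (k : ℕ) :
    Fitt.ideal B M k ≤ p.asIdeal ↔ k < Module.finrank p.asIdeal.ResidueField (p.asIdeal.ResidueField ⊗[B] M) := by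
  let κ := p.asIdeal.ResidueField
  rw [← not_iff_not, not_lt]
  refine ⟨fun h => ?_, fun h => ?_⟩
  · obtain ⟨f, hf, hg⟩ := FittLib.exists_generators_of_not_le h
    obtain ⟨g, hg⟩ := hg κ (isUnit_iff_ne_zero.2 fun h0 => hf (Ideal.algebraMap_residueField_eq_zero.1 h0))
    have := finrank_range_le_card (R := κ) g
    rwa [Set.finrank, hg, finrank_top, Fintype.card_fin] at this
  · have hb := Module.finBasis κ (κ ⊗[B] M)
    have h1 : Fitt.ideal κ (κ ⊗[B] M) k = ⊤ :=
      FittLib.ideal_eq_top_of_generators (fun i => hb i) hb.span_eq (by rwa [Fintype.card_fin])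
    rw [FittLib.ideal_baseChange] at h1
    exact FittLib.not_le_of_map_eq_top _ h1 κ (algebraMap B κ)
      (fun a ha => Ideal.algebraMap_residueField_eq_zero.2 ha) (RingHom.id κ) rfl

theorem fitting_fg [Module.FinitePresentation B M] (k : ℕ) : (Fitt.ideal B M k).FG := by
  classical
  obtain ⟨n, x, hx⟩ := FittLib.exists_generators B M
  have hrel : (FittLib.rel B x).FG :=
    Module.FinitePresentation.fg_ker (Fintype.linearCombination B x)
      (LinearMap.range_eq_top.1 (by rw [Fintype.range_linearCombination]; exact hx))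
  obtain ⟨G, hG⟩ := hrel
  rw [FittLib.ideal_eq_minors x hx, Fintype.card_fin]
  let I : Ideal B := Ideal.span (Set.range fun w : (Fin (n - k) → G) × (Fin (n - k) → Fin n) =>
    FittLib.minor (fun j => ((w.1 j : Fin n → B))) w.2)
  suffices h : FittLib.minors B x (n - k) = I by
    rw [h]
    exact Submodule.fg_span (Set.finite_range _)
  refine le_antisymm ?_ (Ideal.span_le.2 ?_)
  · refine FittLib.minors_le_of_span (G : Set (Fin n → B)) hG.ge fun z e hz => ?_
    exact Ideal.subset_span ⟨(fun j => ⟨z j, hz j⟩, e), rfl⟩
  · rintro _ ⟨⟨w, e⟩, rfl⟩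
    exact FittLib.minor_mem_minors (fun j => hG.le (Submodule.subset_span (w j).2)) e

theorem isConstructible_rank_eq [Module.FinitePresentation B M] (n : ℕ) :
    IsConstructible {p : PrimeSpectrum B |
      Module.finrank p.asIdeal.ResidueField (p.asIdeal.ResidueField ⊗[B] M) = n} := by
  have hgt : ∀ k, IsConstructible {p : PrimeSpectrum B |
      k < Module.finrank p.asIdeal.ResidueField (p.asIdeal.ResidueField ⊗[B] M)} := fun k => by
    obtain ⟨T, hT⟩ := fitting_fg (B := B) M k
    have e : {p : PrimeSpectrum B | k < Module.finrank p.asIdeal.ResidueField (p.asIdeal.ResidueField ⊗[B] M)} =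
        PrimeSpectrum.zeroLocus (T : Set B) := by
      ext p
      rw [Set.mem_setOf_eq, ← fitting_le_iff, ← hT, PrimeSpectrum.mem_zeroLocus, Ideal.span_le]
    rw [e]
    rw [← isConstructible_compl]
    exact (PrimeSpectrum.isRetrocompact_zeroLocus_compl T.finite_toSet).isConstructible
      (PrimeSpectrum.isClosed_zeroLocus _).isOpen_compl
  cases n with
  | zero =>
    convert (hgt 0).compl using 1
    ext p; simp
  | succ n =>
    convert (hgt n).sdiff (hgt (n + 1)) using 1
    ext p
    simp only [Set.mem_setOf_eq, Set.mem_diff]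
    omega

end Groth.Agent.ConsFlat
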