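import Groth.Agent.ConsEngine.Props
import Groth.Agent.ConsEngine.Main
import Groth.Agent.ModDesc.BaseChange
import Groth.Agent.LocFree.Props
import Groth.Agent.FlatModB.FiniteFlat
import Groth.Agent.ConsFlat.Rank
import Groth.Agent.IndEtLib.WContract
import Groth.Agent.CurveRR.Easy
import Mathlib.Algebra.TrivSqZeroExt.Basic
import Mathlib.RingTheory.Finiteness.ModuleFinitePresentation

/-!
# The locus where a module is finite locally free on the fibres is constructible

For an affine open `U` of `X` the module of sections `M` is turned into the square-zero extension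
`T = Γ(X, U) ⊕ M`; the restriction of `F` to a fibre is flat over `U` iff the fibre of `Spec T ⟶ X` is flat.
-/

set_option autoImplicit false
set_option backward.isDefEq.respectTransparency false
set_option linter.style.haveILetI false

universe u

open CategoryTheory CategoryTheory.Limits AlgebraicGeometry TensorProduct Topology

noncomputable section

namespace Groth.Agent.ConsFlat

section Alg

variable (B M : Type u) [CommRing B] [AddCommGroup M] [Module B M]

/-- the opposite action equal to the given one -/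
abbrev opMod : Module Bᵐᵒᵖ M := Module.compHom M ((RingHom.id B).fromOpposite mul_comm)

/-- the square zero extension is commutative and is a product as a module -/
theorem exists_sqZero [Module.FinitePresentation B M] : ∃ (T : CommRingCat.{u}) (φ : CommRingCat.of B ⟶ T),
    φ.hom.FinitePresentation ∧ ∀ (C : Type u) [CommRing C] [Algebra B C],
      (letI := φ.hom.toAlgebra; Module.Flat C (C ⊗[B] (T : Type u)) ↔ Module.Flat C (C ⊗[B] M)) := by
  letI := opMod B M
  haveI : IsCentralScalar B M := ⟨fun _ _ => rfl⟩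
  refine ⟨CommRingCat.of (TrivSqZeroExt B M), CommRingCat.ofHom (algebraMap B (TrivSqZeroExt B M)), ?_, ?_⟩
  · let e : TrivSqZeroExt B M ≃ₗ[B] B × M :=
      { toFun := fun x => (x.fst, x.snd)
        map_add' := fun _ _ => rfl
        map_smul' := fun _ _ => rfl
        invFun := fun x => TrivSqZeroExt.inl x.1 + TrivSqZeroExt.inr x.2
        left_inv := fun x => TrivSqZeroExt.inl_fst_add_inr_snd_eq x
        right_inv := fun x => by ext <;> simp }
    haveI : Module.FinitePresentation B (B × M) := inferInstance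
    haveI : Module.FinitePresentation B (TrivSqZeroExt B M) := Module.FinitePresentation.of_equiv e.symm
    exact RingHom.finitePresentation_algebraMap.2 inferInstance
  · intro C _ _
    let i : M →ₗ[B] TrivSqZeroExt B M := TrivSqZeroExt.inrHom B M
    let j : B →ₗ[B] TrivSqZeroExt B M := Algebra.linearMap B (TrivSqZeroExt B M)
    let pr : TrivSqZeroExt B M →ₗ[B] M :=
      { toFun := TrivSqZeroExt.snd, map_add' := fun _ _ => rfl, map_smul' := fun _ _ => rfl }
    let e : TrivSqZeroExt B M ≃ₗ[B] B × M :=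
      { toFun := fun x => (x.fst, x.snd)
        map_add' := fun _ _ => rfl
        map_smul' := fun _ _ => rfl
        invFun := fun x => TrivSqZeroExt.inl x.1 + TrivSqZeroExt.inr x.2
        left_inv := fun x => TrivSqZeroExt.inl_fst_add_inr_snd_eq x
        right_inv := fun x => by ext <;> simp }
    have halg : (CommRingCat.ofHom (algebraMap B (TrivSqZeroExt B M))).hom.toAlgebra =
        (inferInstance : Algebra B (TrivSqZeroExt B M)) := Algebra.algebra_ext _ _ fun r => rfl
    rw [halg]
    constructor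
    · intro h
      refine Module.Flat.of_retract (i.baseChange C) (pr.baseChange C) ?_
      rw [← LinearMap.baseChange_comp, show pr.comp i = LinearMap.id from LinearMap.ext fun m => rfl,
        LinearMap.baseChange_id]
    · intro h
      haveI : Module.Flat C (C ⊗[B] B) := Module.Flat.of_linearEquiv (AlgebraTensorModule.rid B C C)
      haveI : Module.Flat C ((C ⊗[B] B) × (C ⊗[B] M)) := Groth.Agent.IndEtLib.flat_prod
      exact Module.Flat.of_linearEquiv ((e.baseChange B C).trans (TensorProduct.prodRight B C C B M))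

end Alg

variable {X : Scheme.{u}} {A : CommRingCat.{u}} (f : X ⟶ Spec A) [LocallyOfFinitePresentation f]
  [QuasiCompact f] [QuasiSeparated f] (F : X.Modules)

/-- the sections on the part of the fibre over an affine open -/
def sectFlat (U : X.Opens) (s : Spec A) : Prop :=
  letI := ((f.fiberι s).appLE U (f.fiberι s ⁻¹ᵁ U) le_rfl).hom.toAlgebra
  Module.Flat Γ(f.fiber s, f.fiberι s ⁻¹ᵁ U) (Γ(f.fiber s, f.fiberι s ⁻¹ᵁ U) ⊗[Γ(X, U)] Γ(F, U))

omit [LocallyOfFinitePresentation f] [QuasiCompact f] [QuasiSeparated f] in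
theorem isAffineHom_fiberι (s : Spec A) : IsAffineHom (f.fiberι s) :=
  MorphismProperty.pullback_fst (P := @IsAffineHom) _ _ inferInstance

theorem isLocallyConstructible_sectFlat (hF : CohB1.IsFP F) [Coh.IsQCoh F] {U : X.Opens} (hU : IsAffineOpen U) :
    IsLocallyConstructible {s | sectFlat f F U s} := by
  haveI := LocFree.finitePresentation_sections_of_isFP (M := F) inferInstance hF hU
  obtain ⟨T, φ, hφ, hflat⟩ := exists_sqZero Γ(X, U) Γ(F, U)
  let t : Spec T ⟶ X := Spec.map φ ≫ hU.fromSpec
  haveI : LocallyOfFinitePresentation (Spec.map φ) := (LocallyOfFinitePresentation.SpecMap_iff _).2 hφ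
  haveI : LocallyOfFinitePresentation (t ≫ f) := by
    rw [Category.assoc]; infer_instance
  suffices e : {s | sectFlat f F U s} = ConsProp.locusMor (fun _ _ _ g _ => Flat g) t f by
    rw [e]
    exact ConsEngine.isLocallyConstructible_locusMor ConsEngine.isConsMor_flat t f
  ext s
  haveI := isAffineHom_fiberι f s
  let W := f.fiberι s ⁻¹ᵁ U
  have hW : IsAffineOpen W := hU.preimage _
  let ψ := (f.fiberι s).appLE U W le_rfl
  letI := ψ.hom.toAlgebra
  letI := φ.hom.toAlgebra
  have sq : IsPullback hW.fromSpec (Spec.map ψ) (f.fiberι s) hU.fromSpec := by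
    refine (IsOpenImmersion.isPullback (Spec.map ψ) hW.fromSpec hU.fromSpec (f.fiberι s) ?_ ?_).flip
    · rw [← IsAffineOpen.SpecMap_appLE_fromSpec (f.fiberι s) hU hW le_rfl]
    · rw [hW.opensRange_fromSpec, hU.opensRange_fromSpec]
  let a : CommRingCat.of Γ(f.fiber s, W) ⟶ CommRingCat.of (Γ(f.fiber s, W) ⊗[Γ(X, U)] (T : Type u)) :=
    CommRingCat.ofHom (algebraMap Γ(f.fiber s, W) (Γ(f.fiber s, W) ⊗[Γ(X, U)] (T : Type u)))
  let b : CommRingCat.of (T : Type u) ⟶ CommRingCat.of (Γ(f.fiber s, W) ⊗[Γ(X, U)] (T : Type u)) :=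
    CommRingCat.ofHom (Algebra.TensorProduct.includeRight (R := Γ(X, U))).toRingHom
  have sq2 : IsPullback (Spec.map a) (Spec.map b) (Spec.map ψ) (Spec.map φ) :=
    isPullback_SpecMap_of_isPushout _ _ _ _ (CommRingCat.isPushout_tensorProduct Γ(X, U) Γ(f.fiber s, W) T)
  have big : IsPullback (Spec.map b) (Spec.map a ≫ hW.fromSpec) t (f.fiberι s) :=
    sq2.flip.paste_vert sq.flip
  have hfm := ConsEngine.isPullback_fiberMap t f s
  let e := big.isoIsPullback _ _ hfm
  have he : e.hom ≫ MoreMor.fiberMap t f s = Spec.map a ≫ hW.fromSpec := big.isoIsPullback_hom_snd _ _ hfm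
  show sectFlat f F U s ↔ Flat (MoreMor.fiberMap t f s)
  rw [← MorphismProperty.cancel_left_of_respectsIso (P := @Flat) e.hom, he]
  refine Iff.trans (hflat Γ(f.fiber s, W)).symm ?_
  rw [← RingHom.flat_algebraMap_iff]
  refine Iff.trans (Flat.SpecMap_iff (f := a)).symm ?_
  refine ⟨fun h => inferInstance, fun h => ?_⟩
  have sq3 : IsPullback (𝟙 _) (Spec.map a) (Spec.map a ≫ hW.fromSpec) hW.fromSpec :=
    (IsPullback.of_vert_isIso_mono (fst := Spec.map a) (snd := 𝟙 _) (f := hW.fromSpec) (g := Spec.map a ≫ hW.fromSpec) ⟨by rw [Category.id_comp]⟩).flip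
  exact MorphismProperty.of_isPullback (P := @Flat) sq3 h

theorem sectFlat_iff (hF : CohB1.IsFP F) [Coh.IsQCoh F] {U : X.Opens} (hU : IsAffineOpen U) (s : Spec A) :
    sectFlat f F U s ↔
      Module.Flat Γ(f.fiber s, f.fiberι s ⁻¹ᵁ U) Γ((Scheme.Modules.pullback (f.fiberι s)).obj F, f.fiberι s ⁻¹ᵁ U) ∧
      Module.FinitePresentation Γ(f.fiber s, f.fiberι s ⁻¹ᵁ U)
        Γ((Scheme.Modules.pullback (f.fiberι s)).obj F, f.fiberι s ⁻¹ᵁ U) := by
  haveI := LocFree.finitePresentation_sections_of_isFP (M := F) inferInstance hF hU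
  haveI := isAffineHom_fiberι f s
  letI := ((f.fiberι s).appLE U (f.fiberι s ⁻¹ᵁ U) le_rfl).hom.toAlgebra
  obtain ⟨Φ, -⟩ := ModDesc.exists_bijective_liftBaseChange (f.fiberι s) F hU (hU.preimage _) le_rfl
  exact ⟨fun h => ⟨@Module.Flat.of_linearEquiv _ _ _ _ _ _ _ _ h Φ.symm, Module.FinitePresentation.of_equiv Φ⟩,
    fun h => @Module.Flat.of_linearEquiv _ _ _ _ _ _ _ _ h.1 Φ⟩

end Groth.Agent.ConsFlat
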