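import Groth.Agent.ConsFlat.Main
import Groth.Agent.ConsEngine.SetProp
import Groth.Agent.FlatCx.ReducedRank
import Groth.Agent.ModDesc.Iso
import Groth.Agent.Nagata.Bundles

/-!
# Constructibility of the loci of local freeness on the fibres
-/

set_option autoImplicit false
set_option backward.isDefEq.respectTransparency false
set_option linter.style.haveILetI false

universe u

open CategoryTheory CategoryTheory.Limits AlgebraicGeometry TensorProduct Topology

noncomputable section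

namespace Groth.Agent.ConsFlat

theorem finrank_stalk {X : Scheme.{u}} {M : X.Modules} {U : X.Opens} {n : ℕ}
    (i : M.restrict U.ι ≅ FlatMod.freeMod (↑U) n) (hM : Coh.IsQCoh M) {x : X} (hx : x ∈ U) :
    Module.finrank (X.presheaf.stalk x) (M.presheaf.stalk x) = n := by
  obtain ⟨b⟩ := LocFree.exists_basis_stalk i hM hx
  rw [Module.finrank_eq_card_basis b, Fintype.card_ulift, Fintype.card_fin]

theorem isFinLocFreeOfRank_iff {X : Scheme.{u}} {M : X.Modules} (hM : Coh.IsQCoh M) (n : ℕ) :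
    FlatMod.IsFinLocFreeOfRank n M ↔ FlatMod.IsFinLocFree M ∧
      ∀ x : X, Module.finrank (X.presheaf.stalk x) (M.presheaf.stalk x) = n := by
  refine ⟨fun h => ⟨Nagata.isFinLocFree_of_rank' h, fun x => ?_⟩, fun ⟨h, hr⟩ x => ?_⟩
  · obtain ⟨U, hx, ⟨i⟩⟩ := h x
    exact finrank_stalk i hM hx
  · obtain ⟨U, m, hx, ⟨i⟩⟩ := h x
    obtain rfl : m = n := (finrank_stalk i hM hx).symm.trans (hr x)
    exact ⟨U, hx, ⟨i⟩⟩

section Affine

variable {X : Scheme.{u}} {A : CommRingCat.{u}} (f : X ⟶ Spec A) [LocallyOfFinitePresentation f]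
  [QuasiCompact f] [QuasiSeparated f] (F : X.Modules) [Coh.IsQCoh F]

theorem finLocFree_iff (hF : CohB1.IsFP F) (𝒰 : Set X.affineOpens) (h𝒰 : ∀ x : X, ∃ U ∈ 𝒰, x ∈ U.1) (s : Spec A) :
    FlatMod.IsFinLocFree ((Scheme.Modules.pullback (f.fiberι s)).obj F) ↔ ∀ U ∈ 𝒰, sectFlat f F U.1 s := by
  haveI := isAffineHom_fiberι f s
  refine ⟨fun h U _ => (sectFlat_iff f F hF U.2 s).2 ?_, fun h => ?_⟩
  · have hW := U.2.preimage (f.fiberι s)
    haveI := LocFree.projective_sections h hW
    exact ⟨inferInstance, LocFree.finitePresentation_sections h hW⟩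
  · refine LocFree.isFinLocFree_of_affine_projective
      (Groth.Agent.QC.isQCoh_pullback _ inferInstance) fun z => ?_
    obtain ⟨U, hU, hz⟩ := h𝒰 (f.fiberι s z)
    obtain ⟨h1, h2⟩ := (sectFlat_iff f F hF U.2 s).1 (h U hU)
    exact ⟨_, U.2.preimage _, hz, h2, h1⟩

theorem finrank_stalk_fibre (hF : CohB1.IsFP F) {U : X.Opens} (hU : IsAffineOpen U) (s : Spec A)
    (h : FlatMod.IsFinLocFree ((Scheme.Modules.pullback (f.fiberι s)).obj F)) (z : ↥(f.fiber s))
    (hz : f.fiberι s z ∈ U) :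
    Module.finrank ((f.fiber s).presheaf.stalk z)
        (((Scheme.Modules.pullback (f.fiberι s)).obj F).presheaf.stalk z) =
      FlatCx.fdim Γ(F, U) (hU.primeIdealOf ⟨f.fiberι s z, hz⟩) := by
  haveI := isAffineHom_fiberι f s
  have hW : IsAffineOpen (f.fiberι s ⁻¹ᵁ U) := hU.preimage _
  letI := ((f.fiberι s).appLE U (f.fiberι s ⁻¹ᵁ U) le_rfl).hom.toAlgebra
  obtain ⟨Φ, -⟩ := ModDesc.exists_bijective_liftBaseChange (f.fiberι s) F hU hW le_rfl
  haveI := LocFree.projective_sections h hW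
  haveI := LocFree.finitePresentation_sections h hW
  have hp : PrimeSpectrum.comap (algebraMap Γ(X, U) Γ(f.fiber s, f.fiberι s ⁻¹ᵁ U)) (hW.primeIdealOf ⟨z, hz⟩) =
      hU.primeIdealOf ⟨f.fiberι s z, hz⟩ :=
    hU.fromSpec.isOpenEmbedding.injective ((Unibranch.fromSpec_comap_appLE (f.fiberι s) hU hW le_rfl _).trans
      ((congrArg (f.fiberι s) (hW.fromSpec_primeIdealOf ⟨z, hz⟩)).trans (hU.fromSpec_primeIdealOf ⟨_, hz⟩).symm))
  rw [FlatModB.finrank_stalk_eq (Groth.Agent.QC.isQCoh_pullback _ inferInstance) hW hz,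
    ← FlatCx.fdim_eq_rankAtStalk, ← FlatCx.fdim_congr Φ, FlatCx.fdim_localization _ _ _ _ hp]

theorem isLocallyConstructible_finLocFree (hF : CohB1.IsFP F) :
    IsLocallyConstructible {s | FlatMod.IsFinLocFree ((Scheme.Modules.pullback (f.fiberι s)).obj F)} := by
  classical
  haveI : CompactSpace X := QuasiCompact.compactSpace_of_compactSpace f
  choose V hV hx using fun x : X => QC.exists_affine_mem x
  obtain ⟨t, ht⟩ := isCompact_univ.elim_finite_subcover (fun x => (V x : Set X)) (fun x => (V x).2)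
    fun x _ => Set.mem_iUnion.2 ⟨x, hx x⟩
  let 𝒰 : Set X.affineOpens := (fun x => ⟨V x, hV x⟩) '' (t : Set X)
  have h𝒰 : ∀ x : X, ∃ U ∈ 𝒰, x ∈ U.1 := fun x => by
    obtain ⟨a, ha, hxa⟩ := Set.mem_iUnion₂.1 (ht (Set.mem_univ x))
    exact ⟨⟨V a, hV a⟩, ⟨a, ha, rfl⟩, hxa⟩
  have e : {s | FlatMod.IsFinLocFree ((Scheme.Modules.pullback (f.fiberι s)).obj F)} =
      ⋂ x ∈ (t : Set X), {s | sectFlat f F (V x) s} := by
    ext s
    rw [Set.mem_setOf_eq, finLocFree_iff f F hF 𝒰 h𝒰 s]
    simp [𝒰]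
  rw [e]
  exact (IsConstructible.biInter t.finite_toSet fun x _ =>
    (isLocallyConstructible_sectFlat f F hF (hV x)).isConstructible).isLocallyConstructible

theorem isLocallyConstructible_rank (hF : CohB1.IsFP F) (n : ℕ) :
    IsLocallyConstructible {s | FlatMod.IsFinLocFreeOfRank n ((Scheme.Modules.pullback (f.fiberι s)).obj F)} := by
  classical
  haveI : CompactSpace X := QuasiCompact.compactSpace_of_compactSpace f
  choose V hV hx using fun x : X => QC.exists_affine_mem x
  obtain ⟨t, ht⟩ := isCompact_univ.elim_finite_subcover (fun x => (V x : Set X)) (fun x => (V x).2)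
    fun x _ => Set.mem_iUnion.2 ⟨x, hx x⟩
  have hbad : ∀ x : X, IsConstructible (((hV x).fromSpec ≫ f) ''
      {p : PrimeSpectrum Γ(X, V x) | FlatCx.fdim Γ(F, V x) p = n}ᶜ) := fun x => by
    haveI := LocFree.finitePresentation_sections_of_isFP (M := F) inferInstance hF (hV x)
    haveI : QuasiCompact ((hV x).fromSpec ≫ f) := (quasiCompact_iff_compactSpace _).2 inferInstance
    exact (((hV x).fromSpec ≫ f).isLocallyConstructible_image
      ((isConstructible_rank_eq Γ(F, V x) n).compl.isLocallyConstructible)).isConstructible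
  have e : {s | FlatMod.IsFinLocFreeOfRank n ((Scheme.Modules.pullback (f.fiberι s)).obj F)} =
      {s | FlatMod.IsFinLocFree ((Scheme.Modules.pullback (f.fiberι s)).obj F)} ∩
        ⋂ x ∈ (t : Set X), (((hV x).fromSpec ≫ f) ''
          {p : PrimeSpectrum Γ(X, V x) | FlatCx.fdim Γ(F, V x) p = n}ᶜ)ᶜ := by
    ext s
    simp only [Set.mem_setOf_eq, Set.mem_inter_iff, Set.mem_iInter, Set.mem_compl_iff]
    rw [isFinLocFreeOfRank_iff (Groth.Agent.QC.isQCoh_pullback _ inferInstance)]
    refine and_congr_right fun hfl => ⟨fun h x _ ⟨p, hp, hps⟩ => hp ?_, fun h z => ?_⟩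
    · obtain ⟨z, hz⟩ : (hV x).fromSpec p ∈ Set.range (f.fiberι s) := by rw [f.range_fiberι]; exact hps
      have hz' : f.fiberι s z ∈ V x := hz ▸ (hV x).range_fromSpec.subset ⟨p, rfl⟩
      have := finrank_stalk_fibre f F hF (hV x) s hfl z hz'
      rw [h z, show (hV x).primeIdealOf ⟨f.fiberι s z, hz'⟩ = p from
        (hV x).fromSpec.isOpenEmbedding.injective (((hV x).fromSpec_primeIdealOf ⟨_, hz'⟩).trans hz)] at this
      exact this.symm
    · obtain ⟨a, ha, hza⟩ := Set.mem_iUnion₂.1 (ht (Set.mem_univ (f.fiberι s z)))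
      rw [finrank_stalk_fibre f F hF (hV a) s hfl z hza]
      by_contra hne
      refine h a ha ⟨_, hne, ?_⟩
      show f ((hV a).fromSpec ((hV a).primeIdealOf ⟨f.fiberι s z, hza⟩)) = s
      rw [(hV a).fromSpec_primeIdealOf]
      have : f.fiberι s z ∈ f ⁻¹' {s} := by rw [← f.range_fiberι]; exact ⟨z, rfl⟩
      exact this
  rw [e]
  exact ((isLocallyConstructible_finLocFree f F hF).isConstructible.inter
    (IsConstructible.biInter t.finite_toSet fun x _ => (hbad x).compl)).isLocallyConstructible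

end Affine

/-- Locally on the base. -/
theorem isLocallyConstructible_of_affine {X S : Scheme.{u}} (f : X ⟶ S) [LocallyOfFinitePresentation f]
    [QuasiCompact f] [QuasiSeparated f] (F : X.Modules) [Coh.IsQCoh F] (hF : CohB1.IsFP F)
    (P : ∀ {Z : Scheme.{u}}, Z.Modules → Prop)
    (hiso : ∀ {Z : Scheme.{u}} {M N : Z.Modules}, (M ≅ N) → P M → P N)
    (hpull : ∀ {Z Z' : Scheme.{u}} (e : Z' ⟶ Z) (M : Z.Modules), P M → P ((Scheme.Modules.pullback e).obj M))
    (aff : ∀ {A : CommRingCat.{u}} {X : Scheme.{u}} (f : X ⟶ Spec A) [LocallyOfFinitePresentation f]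
      [QuasiCompact f] [QuasiSeparated f] (F : X.Modules) [Coh.IsQCoh F], CohB1.IsFP F →
      IsLocallyConstructible {s | P ((Scheme.Modules.pullback (f.fiberι s)).obj F)}) :
    IsLocallyConstructible {s | P ((Scheme.Modules.pullback (f.fiberι s)).obj F)} := by
  refine IsLocallyConstructible.of_isOpenCover (U := fun W : S.affineOpens => W.1) (iSup_affineOpens_eq_top S)
    fun W => ?_
  let ψ : Spec Γ(S, W.1) ⟶ S := W.2.isoSpec.inv ≫ W.1.ι
  let q := pullback.fst f ψ
  haveI : Coh.IsQCoh ((Scheme.Modules.pullback q).obj F) := Groth.Agent.QC.isQCoh_pullback _ inferInstance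
  have h := aff (pullback.snd f ψ) ((Scheme.Modules.pullback q).obj F) (ModDesc.isFP_pullback q inferInstance hF)
  have e : ∀ v, P ((Scheme.Modules.pullback ((pullback.snd f ψ).fiberι v)).obj ((Scheme.Modules.pullback q).obj F)) ↔
      P ((Scheme.Modules.pullback (f.fiberι (ψ v))).obj F) := fun v => by
    let b := ConsEngine.fiberBC (IsPullback.of_hasPullback f ψ) v
    haveI : IsIso b := (ConsEngine.isPullback_fiberBC (IsPullback.of_hasPullback f ψ) v).isIso_fst_of_isIso
    have hb := ConsEngine.fiberBC_fiberι (IsPullback.of_hasPullback f ψ) v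
    let i : (Scheme.Modules.pullback b).obj ((Scheme.Modules.pullback (f.fiberι (ψ v))).obj F) ≅
        (Scheme.Modules.pullback ((pullback.snd f ψ).fiberι v)).obj ((Scheme.Modules.pullback q).obj F) :=
      (Scheme.Modules.pullbackComp b (f.fiberι (ψ v))).app F ≪≫ (Scheme.Modules.pullbackCongr hb).app F ≪≫
        ((Scheme.Modules.pullbackComp _ q).app F).symm
    refine ⟨fun hP => ?_, fun hP => hiso i (hpull b _ hP)⟩
    exact hiso ((Scheme.Modules.pullbackComp (inv b) b).app _ ≪≫ (Scheme.Modules.pullbackCongr (IsIso.inv_hom_id b)).app _ ≪≫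
      (Scheme.Modules.pullbackId _).app _) (hpull (inv b) _ (hiso i.symm hP))
  simp only [e] at h
  have h' := ConsEngine.isLocallyConstructible_preimage W.2.isoSpec.hom h
  have key : (W.2.isoSpec.hom ⁻¹' {v | P ((Scheme.Modules.pullback (f.fiberι (ψ v))).obj F)} : Set W.1.toScheme) =
      (W.1.ι ⁻¹' {s | P ((Scheme.Modules.pullback (f.fiberι s)).obj F)} : Set W.1.toScheme) := by
    ext w
    have hw : ψ (W.2.isoSpec.hom w) = W.1.ι w := by simp [ψ, ← Scheme.Hom.comp_apply]
    exact Eq.to_iff (congrArg (fun t => P ((Scheme.Modules.pullback (f.fiberι t)).obj F)) hw)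
  exact key ▸ h'

theorem isLocallyConstructible_finLocFree' {X S : Scheme.{u}} (f : X ⟶ S) [LocallyOfFinitePresentation f]
    [QuasiCompact f] [QuasiSeparated f] (F : X.Modules) [Coh.IsQCoh F] (hF : CohB1.IsFP F) :
    IsLocallyConstructible {s | FlatMod.IsFinLocFree ((Scheme.Modules.pullback (f.fiberι s)).obj F)} :=
  isLocallyConstructible_of_affine f F hF (fun M => FlatMod.IsFinLocFree M)
    (fun e h x => by
      obtain ⟨U, n, hU, ⟨a⟩⟩ := h x
      exact ⟨U, n, hU, ⟨((Scheme.Modules.restrictFunctor U.ι).mapIso e).symm ≪≫ a⟩⟩)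
    (fun e M h x => by
      obtain ⟨U, n, hU, ⟨a⟩⟩ := h (e.base x)
      exact ⟨e ⁻¹ᵁ U, n, hU, ⟨(DerPerf.pullRestrictIso e U).app M ≪≫ (Scheme.Modules.pullback (e ∣_ U)).mapIso a ≪≫
        DerPerf.pullFreeIso (e ∣_ U) n⟩⟩)
    fun f _ _ _ F _ hF => isLocallyConstructible_finLocFree f F hF

theorem isLocallyConstructible_rank' {X S : Scheme.{u}} (f : X ⟶ S) [LocallyOfFinitePresentation f]
    [QuasiCompact f] [QuasiSeparated f] (F : X.Modules) [Coh.IsQCoh F] (hF : CohB1.IsFP F) (n : ℕ) :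
    IsLocallyConstructible {s | FlatMod.IsFinLocFreeOfRank n ((Scheme.Modules.pullback (f.fiberι s)).obj F)} :=
  isLocallyConstructible_of_affine f F hF (fun M => FlatMod.IsFinLocFreeOfRank n M)
    (fun e h => Nagata.isFinLocFreeOfRank_of_iso e h)
    (fun e M h => Nagata.isFinLocFreeOfRank_pullback e h)
    fun f _ _ _ F _ hF => isLocallyConstructible_rank f F hF n

end Groth.Agent.ConsFlat
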